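import Cfsg.Agent.AltCent.Chain
import Cfsg.Agent.AltCent.FiveS.Data
import Cfsg.Agent.AltCent.FiveA.Data
import Cfsg.Agent.AltCent.FiveB.Data

/-! # Derived vectors for degree ten (generated certificate data) -/

set_option autoImplicit false
set_option maxRecDepth 100000

namespace CfsgLib.AltCent.FiveChain

def witS0 : List (List (ℕ × ℕ) × List (ℕ × ℕ) × List (ℕ × ℕ)) :=
  [([(3, 0), (4, 15), (10, 0), (1, 3), (8, 17)], [], []),
   ([(1, 2), (3, 2), (4, 2), (8, 2), (10, 2)], [], []),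
   ([(1, 7), (8, 1), (10, 3), (3, 30), (4, 3)], [], [(8, 3)]),
   ([(1, 4), (3, 4), (4, 4), (8, 4), (10, 4)], [], [(8, 3)])]

theorem eigS0_ok : gensEigenOK 5 FiveS.base0 FiveS.B FiveS.gens witS0 = true := by decide +kernel

def witS1 : List (List (ℕ × ℕ) × List (ℕ × ℕ) × List (ℕ × ℕ)) :=
  [([(2, 1), (6, 1), (7, 1), (14, 1), (15, 1)], [], []),
   ([(6, 0), (7, 24), (15, 0), (2, 4), (14, 26)], [], []),
   ([(2, 3), (6, 3), (7, 3), (14, 3), (15, 3)], [], [(14, 3)]),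
   ([(2, 11), (14, 2), (15, 4), (6, 34), (7, 4)], [], [(14, 3)])]

theorem eigS1_ok : gensEigenOK 5 FiveS.base1 FiveS.B FiveS.gens witS1 = true := by decide +kernel

def sqS0 : List (ℕ × ℕ × ℕ × List (ℕ × ℕ)) :=
  [(654820257825, 0, 1, [(4, 0), (8, 0), (0, 0), (10, 12), (3, 12)]),
   (654820000050, 0, 1, [(10, 0), (1, 3), (0, 1), (8, 5), (4, 7)]),
   (654820258050, 0, 1, [(0, 0), (10, 12), (1, 0), (3, 0), (8, 12)]),
   (654820065840, 0, 4, [(3, 12), (4, 3), (1, 1), (10, 7), (0, 7)]),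
   (654820000275, 0, 1, [(0, 1), (8, 5), (3, 0), (4, 15), (1, 30)])]

def sqS0Words : List (List ℕ) := [[528], [288, 1073], [288], [1073], [1072]]

theorem sqS0_ok : (combOK 5 FiveS.B [FiveS.base0] sqS0 && wordsOK 10 sqS0 sqS0Words && sqS0.all (fun x => x.2.1 == 0) &&
    eqMod 5 (combPairs 5 FiveS.B [FiveS.base0] sqS0) [] [(0, 4), (1, 2), (3, 5), (4, 5), (8, 2), (10, 2)] []) = true := by decide +kernel

theorem sqS0_map : (sqS0.map fun x => (x.1, x.2.2.1)) = FiveS.base0.pts.map fun x => (get FiveS.base0.tbl x.1, x.2) := by decide +kernel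

def sqS1 : List (ℕ × ℕ × ℕ × List (ℕ × ℕ)) :=
  [(654301213200, 0, 1, [(7, 0), (14, 0), (0, 0), (15, 14), (6, 14)]),
   (384004534800, 0, 1, [(15, 0), (2, 4), (0, 2), (14, 9), (7, 11)]),
   (654537142800, 0, 1, [(0, 0), (15, 14), (2, 0), (6, 0), (14, 14)]),
   (452990349840, 0, 4, [(6, 14), (7, 4), (2, 2), (15, 11), (0, 11)]),
   (384240464400, 0, 1, [(0, 2), (14, 9), (6, 0), (7, 24), (2, 34)])]

def sqS1Words : List (List ℕ) := [[1893], [1653, 2438], [1653], [2438], [2437]]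

theorem sqS1_ok : (combOK 5 FiveS.B [FiveS.base1] sqS1 && wordsOK 10 sqS1 sqS1Words && sqS1.all (fun x => x.2.1 == 0) &&
    eqMod 5 (combPairs 5 FiveS.B [FiveS.base1] sqS1) [] [(0, 4), (2, 2), (6, 5), (7, 5), (14, 2), (15, 2)] []) = true := by decide +kernel

theorem sqS1_map : (sqS1.map fun x => (x.1, x.2.2.1)) = FiveS.base1.pts.map fun x => (get FiveS.base1.tbl x.1, x.2) := by decide +kernel

def mixS : List (ℕ × ℕ × ℕ × List (ℕ × ℕ)) :=
  [(654820257825, 0, 1, [(5, 0), (12, 0), (13, 0), (22, 0), (23, 0)]),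
   (654820000050, 0, 1, [(9, 0), (17, 0), (18, 0), (26, 0), (27, 0)]),
   (654820258050, 0, 1, [(11, 0), (20, 0), (21, 0), (30, 0), (31, 0)]),
   (654820065840, 0, 4, [(16, 0), (24, 0), (25, 0), (32, 0), (33, 0)]),
   (654820000275, 0, 1, [(19, 0), (28, 0), (29, 0), (34, 0), (35, 0)])]

def mixSWords : List (List ℕ) := [[528], [288, 1073], [288], [1073], [1072]]

def mixS2 : List (ℕ × ℕ × ℕ × List (ℕ × ℕ)) :=
  [(654301213200, 0, 1, [(5, 0), (9, 0), (11, 0), (16, 0), (19, 0)]),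
   (384004534800, 0, 1, [(12, 0), (17, 0), (20, 0), (24, 0), (28, 0)]),
   (654537142800, 0, 1, [(13, 0), (18, 0), (21, 0), (25, 0), (29, 0)]),
   (452990349840, 0, 4, [(22, 0), (26, 0), (30, 0), (32, 0), (34, 0)]),
   (384240464400, 0, 1, [(23, 0), (27, 0), (31, 0), (33, 0), (35, 0)])]

def mixS2Words : List (List ℕ) := [[1893], [1653, 2438], [1653], [2438], [2437]]

theorem mixS_ok : (combOK 5 FiveS.B [FiveS.base1] mixS && wordsOK 10 mixS mixSWords && mixS.all (fun x => x.2.1 == 0) &&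
    combOK 5 FiveS.B [FiveS.base0] mixS2 && wordsOK 10 mixS2 mixS2Words &&
    eqMod 5 (combPairs 5 FiveS.B [FiveS.base1] mixS) (combPairs 5 FiveS.B [FiveS.base0] mixS2) [] []) = true := by decide +kernel

theorem mixS_map : (mixS.map fun x => (x.1, x.2.2.1)) = FiveS.base0.pts.map fun x => (get FiveS.base0.tbl x.1, x.2) := by decide +kernel

def wideA : Base := ⟨0x987654321098765324108697523410987652431086975342108697542310, 6, [(0, 2), (1, 2), (2, 1), (3, 3), (4, 1)]⟩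

def wideAWords : List (List ℕ) := [[1586, 1891, 2199], [1603, 1892, 2199], [1074], [1602, 1892, 2199], [834], []]

theorem wideA_good : repsOK 10 wideA.tbl 0 wideAWords = true := by decide +kernel

theorem wideA_agree : (wideA.pts = FiveA.base0.pts ∧ FiveA.base0.pts.all (fun x => Nat.beq (get wideA.tbl x.1) (get FiveA.base0.tbl x.1)) = true) := by decide +kernel

def witA : List (List (ℕ × ℕ) × List (ℕ × ℕ) × List (ℕ × ℕ)) :=
  [([(1, 1), (2, 53), (3, 117), (4, 20), (0, 58)], [], []),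
   ([(0, 37), (1, 37), (2, 2), (3, 37), (4, 2)], [], []),
   ([(0, 3), (4, 5), (3, 19), (2, 17), (1, 52)], [], [(0, 1), (1, 1), (3, 2)]),
   ([(0, 4), (1, 4), (2, 4), (3, 4), (4, 4)], [], []),
   ([(0, 17), (2, 16), (4, 17), (1, 5), (3, 3)], [], [(0, 1), (1, 1), (3, 1)])]

theorem eigA_ok : gensEigenOK 5 wideA FiveA.B FiveB.gens witA = true := by decide +kernel

def sqA : List (ℕ × ℕ × ℕ × List (ℕ × ℕ)) :=
  [(578064491280, 0, 3, [(5, 4), (2, 4), (1, 0), (4, 4), (3, 0)]),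
   (578064433680, 0, 3, [(4, 4), (5, 4), (3, 0), (2, 4), (0, 0)]),
   (654820131600, 0, 1, [(3, 0), (0, 0), (4, 0), (1, 0), (5, 0)]),
   (578064364560, 0, 2, [(2, 4), (4, 4), (0, 0), (5, 4), (1, 0)]),
   (654820189200, 0, 1, [(1, 0), (3, 0), (5, 0), (0, 0), (2, 0)])]

def sqAWords : List (List ℕ) := [[1586, 1891, 2199], [1603, 1892, 2199], [1074], [1602, 1892, 2199], [834]]

theorem sqA_ok : (combOK 5 FiveA.B [wideA] sqA && wordsOK 10 sqA sqAWords && sqA.all (fun x => x.2.1 == 0) &&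
    eqMod 5 (combPairs 5 FiveA.B [wideA] sqA) [] [(0, 2), (1, 2), (2, 4), (3, 2), (4, 4), (5, 4)] []) = true := by decide +kernel

theorem sqA_map : (sqA.map fun x => (x.1, x.2.2.1)) = FiveB.base0.pts.map fun x => (get FiveB.base0.tbl x.1, x.2) := by decide +kernel

def wideB : Base := ⟨0x987654321098765324108697523410987652431086975342108697542310, 6, [(0, 3), (1, 3), (2, 1), (3, 2), (4, 1)]⟩

def wideBWords : List (List ℕ) := [[1586, 1891, 2199], [1603, 1892, 2199], [1074], [1602, 1892, 2199], [834], []]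

theorem wideB_good : repsOK 10 wideB.tbl 0 wideBWords = true := by decide +kernel

theorem wideB_agree : (wideB.pts = FiveB.base0.pts ∧ FiveB.base0.pts.all (fun x => Nat.beq (get wideB.tbl x.1) (get FiveB.base0.tbl x.1)) = true) := by decide +kernel

def witB : List (List (ℕ × ℕ) × List (ℕ × ℕ) × List (ℕ × ℕ)) :=
  [([(1, 1), (2, 53), (3, 117), (4, 20), (0, 58)], [], []),
   ([(0, 37), (1, 37), (2, 2), (3, 37), (4, 2)], [], []),
   ([(0, 3), (4, 5), (3, 19), (2, 17), (1, 52)], [], [(0, 2), (1, 2), (3, 1)]),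
   ([(0, 4), (1, 4), (2, 4), (3, 4), (4, 4)], [], []),
   ([(0, 17), (2, 16), (4, 17), (1, 5), (3, 3)], [], [(0, 1), (1, 1)])]

theorem eigB_ok : gensEigenOK 5 wideB FiveB.B FiveA.gens witB = true := by decide +kernel

def sqB : List (ℕ × ℕ × ℕ × List (ℕ × ℕ)) :=
  [(578064491280, 0, 2, [(5, 4), (2, 4), (1, 0), (4, 4), (3, 0)]),
   (578064433680, 0, 2, [(4, 4), (5, 4), (3, 0), (2, 4), (0, 0)]),
   (654820131600, 0, 1, [(3, 0), (0, 0), (4, 0), (1, 0), (5, 0)]),
   (578064364560, 0, 3, [(2, 4), (4, 4), (0, 0), (5, 4), (1, 0)]),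
   (654820189200, 0, 1, [(1, 0), (3, 0), (5, 0), (0, 0), (2, 0)])]

def sqBWords : List (List ℕ) := [[1586, 1891, 2199], [1603, 1892, 2199], [1074], [1602, 1892, 2199], [834]]

theorem sqB_ok : (combOK 5 FiveB.B [wideB] sqB && wordsOK 10 sqB sqBWords && sqB.all (fun x => x.2.1 == 0) &&
    eqMod 5 (combPairs 5 FiveB.B [wideB] sqB) [] [(0, 2), (1, 2), (2, 4), (3, 2), (4, 4), (5, 4)] []) = true := by decide +kernel

theorem sqB_map : (sqB.map fun x => (x.1, x.2.2.1)) = FiveA.base0.pts.map fun x => (get FiveA.base0.tbl x.1, x.2) := by decide +kernel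

end CfsgLib.AltCent.FiveChain
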